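import Groth.Agent.GrLinkage.Basic

/-!
Linkage by Gorenstein ideals.
-/

set_option autoImplicit false
set_option linter.style.haveILetI false
set_option linter.unusedVariables false
universe u

open LocCoh
open scoped Pointwise

namespace Groth.Agent.GrLinkage

variable {S : Type u} [CommRing S]

theorem isCohenMacaulayRing_of_gorenstein (A : Type u) [CommRing A] [IsGorensteinRing A] :
    IsCohenMacaulayRing A where
  isCohenMacaulayLocalRing_localization p _ := by
    haveI := IsGorensteinRing.isGorensteinLocalRing_localization (A := A) p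
    obtain ⟨d, hd⟩ := ENat.ne_top_iff_exists.1 (DepthLib.depth_ne_top (R := Localization.AtPrime p) (Localization.AtPrime p))
    exact GorLib.isCohenMacaulayLocalRing d _ hd.symm

/-- In a self-injective local ring of depth zero ideals are double annihilators. -/
theorem mem_of_forall_annihilator {B : Type u} [CommRing B] [IsGorensteinLocalRing B] (hd : depth B B = 0)
    {I : Ideal B} {x : B} (h : ∀ a : B, (∀ i ∈ I, a * i = 0) → a * x = 0) : x ∈ I := by
  by_contra hx
  haveI := GorLib.injective_of_depth_eq_zero hd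
  obtain ⟨hp, u, hu⟩ := isAssociatedPrime_iff.1 (DepthLib.depth_eq_zero_iff.1 hd)
  have hne : u ≠ 0 := fun h0 => hp.ne_top ((Ideal.eq_top_iff_one _).2 (by
    rw [hu, Submodule.mem_colon_singleton, h0, smul_zero]
    exact zero_mem _))
  let φ : B →ₗ[B] B ⧸ I := LinearMap.toSpanSingleton B _ (Submodule.Quotient.mk x)
  have hker : LinearMap.ker φ ≤ LinearMap.ker (LinearMap.toSpanSingleton B B u) := fun a ha => by
    have h1 : a • x ∈ I := (Submodule.Quotient.mk_eq_zero I).1 ha
    have h2 : a ∈ IsLocalRing.maximalIdeal B := by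
      by_contra h3
      exact hx ((Ideal.unit_mul_mem_iff_mem I (IsLocalRing.notMem_maximalIdeal.1 h3)).1 h1)
    rw [hu, Submodule.mem_colon_singleton, Submodule.mem_bot] at h2
    exact h2
  obtain ⟨ψ, hψ⟩ := Module.Injective.out (R := B) (Q := B) ((LinearMap.ker φ).liftQ φ le_rfl)
    (by rw [← LinearMap.ker_eq_bot, Submodule.ker_liftQ_eq_bot _ _ _ le_rfl])
    ((LinearMap.ker φ).liftQ (LinearMap.toSpanSingleton B B u) hker)
  have hval : ψ (Submodule.Quotient.mk x) = u := by
    have h1 := hψ (Submodule.Quotient.mk (1 : B))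
    rw [Submodule.liftQ_apply, Submodule.liftQ_apply] at h1
    rw [LinearMap.toSpanSingleton_apply, LinearMap.toSpanSingleton_apply, one_smul, one_smul] at h1
    exact h1
  have h2 := h (ψ (Submodule.Quotient.mk 1)) fun i hi => by
    rw [mul_comm, ← smul_eq_mul, ← map_smul, ← Submodule.Quotient.mk_smul, smul_eq_mul, mul_one,
      (Submodule.Quotient.mk_eq_zero I).2 hi, map_zero]
  rw [mul_comm, ← smul_eq_mul, ← map_smul, ← Submodule.Quotient.mk_smul, smul_eq_mul, mul_one, hval] at h2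
  exact hne h2

/-- Associated primes of `S/(c:I)` are associated to `S/c`. -/
theorem associatedPrimes_colon_subset [IsNoetherianRing S] (c I : Ideal S) :
    associatedPrimes S (S ⧸ c.colon (I : Set S)) ⊆ associatedPrimes S (S ⧸ c) := by
  classical
  intro P hP
  obtain ⟨hp, z, hz⟩ := isAssociatedPrime_iff.1 hP
  obtain ⟨x, rfl⟩ := Submodule.Quotient.mk_surjective _ z
  obtain ⟨T, hT⟩ : I.FG := IsNoetherian.noetherian I
  let C : S → Ideal S := fun g => (⊥ : Submodule S (S ⧸ c)).colon {Submodule.Quotient.mk (g * x)}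
  have hC : ∀ a g, a ∈ C g ↔ a * (g * x) ∈ c := fun a g => by
    rw [Submodule.mem_colon_singleton, Submodule.mem_bot, ← Submodule.Quotient.mk_smul, Submodule.Quotient.mk_eq_zero]
    exact Iff.rfl
  have hPC : ∀ a, a ∈ P ↔ ∀ i ∈ I, a * (i * x) ∈ c := fun a => by
    rw [hz, Submodule.mem_colon_singleton, Submodule.mem_bot, ← Submodule.Quotient.mk_smul, Submodule.Quotient.mk_eq_zero,
      Submodule.mem_colon]
    refine forall₂_congr fun i _ => ?_
    rw [smul_eq_mul, smul_eq_mul, show a * x * i = a * (i * x) by ring]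
  obtain ⟨g, hg, hgP⟩ : ∃ g ∈ T, C g ≤ P := by
    refine (Ideal.IsPrime.inf_le' hp).1 fun a ha => (hPC a).2 fun i hi => ?_
    rw [Submodule.mem_finsetInf] at ha
    rw [← hT] at hi
    refine Submodule.span_induction (fun t ht => (hC a t).1 (ha t ht)) (by simp) (fun y z _ _ hy hz => ?_)
      (fun r y _ hy => ?_) hi
    · rw [add_mul, mul_add]; exact add_mem hy hz
    · rw [smul_eq_mul, mul_assoc, mul_left_comm]; exact c.mul_mem_left r hy
  refine isAssociatedPrime_iff.2 ⟨hp, Submodule.Quotient.mk (g * x), le_antisymm (fun a ha => ?_) hgP⟩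
  exact (hC a g).2 ((hPC a).1 ha g (hT ▸ Ideal.subset_span hg))

variable {K : Type u} [Field K] {n : ℕ}

local notation "Pol" => MvPolynomial (Fin (n + 1)) K

theorem colon_unmixed {c I : Ideal Pol} (hc : c.IsHomogeneous (GrSyz.stdGr K (Fin (n + 1))))
    [IsCohenMacaulayRing (Pol ⧸ c)] (hI : ¬ I ≤ c) :
    (c.colon (I : Set Pol)).height = c.height ∧
      ∀ P ∈ associatedPrimes Pol (Pol ⧸ c.colon (I : Set Pol)), P.height = c.height := by
  have hall : ∀ P ∈ associatedPrimes Pol (Pol ⧸ c.colon (I : Set Pol)), P.height = c.height := fun P hP =>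
    height_eq_of_mem_associatedPrimes hc (associatedPrimes_colon_subset c I hP)
  refine ⟨?_, hall⟩
  have hne : c.colon (I : Set Pol) ≠ ⊤ := fun h => hI fun i hi => by
    have h1 := Submodule.mem_colon.1 (h ▸ Submodule.mem_top : (1 : Pol) ∈ c.colon (I : Set Pol)) i hi
    rwa [one_smul] at h1
  rw [Ideal.height_eq_inf_minimalPrimes]
  refine le_antisymm ?_ (le_iInf₂ fun P hP => (hall P (mem_associatedPrimes_of_mem_minimalPrimes hP)).ge)
  obtain ⟨P, hP⟩ := Ideal.nonempty_minimalPrimes hne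
  exact (iInf₂_le P hP).trans (hall P (mem_associatedPrimes_of_mem_minimalPrimes hP)).le

theorem inf_eq_of_linked {c I J : Ideal Pol} [IsCohenMacaulayRing (Pol ⧸ c)]
    (hIJ : c.colon (I : Set Pol) = J) (hJI : c.colon (J : Set Pol) = I)
    (hdisj : Disjoint (associatedPrimes Pol (Pol ⧸ I)) (associatedPrimes Pol (Pol ⧸ J))) : I ⊓ J = c := by
  have hcI : c ≤ I := hJI ▸ fun x hx => Submodule.mem_colon.2 fun y _ => Ideal.mul_mem_right _ _ hx
  have hcJ : c ≤ J := hIJ ▸ fun x hx => Submodule.mem_colon.2 fun y _ => Ideal.mul_mem_right _ _ hx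
  refine le_antisymm (fun x hx => ?_) (le_inf hcI hcJ)
  by_contra hxc
  obtain ⟨P, hP, hPx⟩ := exists_mem_associatedPrimes_of_notMem hxc
  have hmin := mem_minimalPrimes_of_cm hP
  have hI : I ≤ P := fun a ha => hPx a (by
    have h1 := Submodule.mem_colon.1 (show x ∈ c.colon (I : Set Pol) from hIJ.symm ▸ hx.2) a ha
    rwa [smul_eq_mul, mul_comm] at h1)
  have hJ : J ≤ P := fun a ha => hPx a (by
    have h1 := Submodule.mem_colon.1 (show x ∈ c.colon (J : Set Pol) from hJI.symm ▸ hx.1) a ha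
    rwa [smul_eq_mul, mul_comm] at h1)
  refine Set.disjoint_left.1 hdisj (mem_associatedPrimes_of_mem_minimalPrimes (I := I) (P := P) ?_)
    (mem_associatedPrimes_of_mem_minimalPrimes (I := J) (P := P) ?_)
  · exact ⟨⟨hmin.isPrime, hI⟩, fun Q hQ hQP => hmin.2 ⟨hQ.1, hcI.trans hQ.2⟩ hQP⟩
  · exact ⟨⟨hmin.isPrime, hJ⟩, fun Q hQ hQP => hmin.2 ⟨hQ.1, hcJ.trans hQ.2⟩ hQP⟩

theorem colon_colon_eq {c I : Ideal Pol} [IsGorensteinRing (Pol ⧸ c)]
    (hIu : ∀ p ∈ associatedPrimes Pol (Pol ⧸ I), p.height = c.height) (hcI : c ≤ I) :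
    c.colon ((c.colon (I : Set Pol) : Ideal Pol) : Set Pol) = I := by
  classical
  refine le_antisymm (fun x hx => ?_) fun i hi => Submodule.mem_colon.2 fun a ha => by
    have h1 := Submodule.mem_colon.1 ha i hi
    rwa [smul_eq_mul, mul_comm] at h1
  by_contra hxI
  obtain ⟨P, hP, hPx⟩ := exists_mem_associatedPrimes_of_notMem hxI
  haveI := hP.isPrime
  have hcP : c ≤ P := hcI.trans (le_of_mem_associatedPrimes hP)
  have hmin := mem_minimalPrimes_of_height_eq hcP (hIu P hP)
  let q : Pol →+* Pol ⧸ c := Ideal.Quotient.mk c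
  haveI : (P.map q).IsPrime := Ideal.map_isPrime_of_surjective Ideal.Quotient.mk_surjective (by rwa [Ideal.mk_ker])
  let B := Localization.AtPrime (P.map q)
  haveI : IsGorensteinLocalRing B := IsGorensteinRing.isGorensteinLocalRing_localization (P.map q)
  have hh : (P.map q).height = 0 := by
    refine Ideal.height_eq_zero_iff.2 ⟨⟨inferInstance, bot_le⟩, fun Q hQ hQP => ?_⟩
    haveI := hQ.1
    have h1 := hmin.2 ⟨Ideal.IsPrime.comap q, fun a ha => by
      rw [Ideal.mem_comap, show q a = 0 from Ideal.Quotient.eq_zero_iff_mem.2 ha]; exact zero_mem _⟩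
      (fun a ha => (Ideal.mem_quotient_iff_mem hcP).1 (hQP ha))
    exact (Ideal.map_mono h1).trans Ideal.map_comap_le
  have hd : depth B B = 0 := by
    have h0 : ringKrullDim B = ((0 : ℕ) : WithBot ℕ∞) := by
      rw [IsLocalization.AtPrime.ringKrullDim_eq_height (P.map q) B, hh]; rfl
    exact GorLib.depth_eq_dim h0
  let ι : Pol →+* B := (algebraMap (Pol ⧸ c) B).comp q
  have hι : ∀ b : B, ∃ a s : Pol, s ∉ P ∧ b * ι s = ι a := fun b => by
    obtain ⟨⟨a, s⟩, hb⟩ := IsLocalization.surj (P.map q).primeCompl b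
    obtain ⟨a, rfl⟩ := Ideal.Quotient.mk_surjective a
    obtain ⟨s', hs'⟩ := Ideal.Quotient.mk_surjective (s : Pol ⧸ c)
    refine ⟨a, s', fun h => s.2 (hs' ▸ Ideal.mem_map_of_mem _ h), ?_⟩
    show b * algebraMap _ B (q s') = _
    rw [show q s' = (s : Pol ⧸ c) from hs']
    exact hb
  have hu : ∀ s, s ∉ P → IsUnit (ι s) := fun s hs =>
    IsLocalization.map_units B (⟨q s, fun h => hs ((Ideal.mem_quotient_iff_mem hcP).1 h)⟩ : (P.map q).primeCompl)
  have hz : ∀ a, ι a = 0 ↔ ∃ s, s ∉ P ∧ s * a ∈ c := fun a => by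
    show algebraMap _ B (q a) = 0 ↔ _
    rw [IsLocalization.map_eq_zero_iff (P.map q).primeCompl]
    constructor
    · rintro ⟨⟨s, hs⟩, h⟩
      obtain ⟨s, rfl⟩ := Ideal.Quotient.mk_surjective s
      exact ⟨s, fun h' => hs (Ideal.mem_map_of_mem _ h'), Ideal.Quotient.eq_zero_iff_mem.1 ((map_mul _ _ _).trans h)⟩
    · rintro ⟨s, hs, h⟩
      exact ⟨⟨q s, fun h' => hs ((Ideal.mem_quotient_iff_mem hcP).1 h')⟩, (map_mul q _ _).symm.trans (Ideal.Quotient.eq_zero_iff_mem.2 h)⟩
  have key : ι x ∈ I.map ι := by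
    refine mem_of_forall_annihilator hd fun b hb => ?_
    obtain ⟨a, s, hs, hbs⟩ := hι b
    obtain ⟨T, hT⟩ : I.FG := IsNoetherian.noetherian I
    have h1 : ∀ g ∈ T, ∃ t, t ∉ P ∧ t * (a * g) ∈ c := fun g hg => by
      refine (hz _).1 ?_
      rw [map_mul, ← hbs, mul_right_comm, hb _ (Ideal.mem_map_of_mem _ (hT ▸ Ideal.subset_span hg)), zero_mul]
    choose t ht1 ht2 using h1
    let t' : Pol := ∏ g ∈ T.attach, t g.1 g.2
    have ht' : t' ∉ P := fun h => by
      obtain ⟨g, -, hg⟩ := Ideal.IsPrime.prod_mem_iff.1 h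
      exact ht1 _ _ hg
    have hta : t' * a ∈ c.colon (I : Set Pol) := by
      rw [← hT, Submodule.mem_colon]
      intro i hi
      refine Submodule.span_induction (fun g hg => ?_) (by simp) (fun y z _ _ hy hz => ?_) (fun r y _ hy => ?_) hi
      · obtain ⟨w, hw⟩ : t g hg ∣ t' := Finset.dvd_prod_of_mem (fun g : T => t g.1 g.2) (Finset.mem_attach T ⟨g, hg⟩)
        rw [smul_eq_mul, hw, show t g hg * w * a * g = w * (t g hg * (a * g)) by ring]
        exact c.mul_mem_left _ (ht2 g hg)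
      · rw [smul_add]; exact add_mem hy hz
      · rw [smul_comm]; exact c.mul_mem_left r hy
    have h2 := Submodule.mem_colon.1 hx _ hta
    refine (hu s hs).mul_left_eq_zero.1 ?_
    refine (mul_right_comm b (ι x) (ι s)).trans ?_
    rw [hbs, ← map_mul]
    refine (hz _).2 ⟨t', ht', ?_⟩
    rw [smul_eq_mul] at h2
    rwa [show t' * (a * x) = x * (t' * a) by ring]
  rw [show I.map ι = (I.map q).map (algebraMap (Pol ⧸ c) B) from (Ideal.map_map _ _).symm,
    show ι x = algebraMap (Pol ⧸ c) B (q x) from rfl,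
    IsLocalization.algebraMap_mem_map_algebraMap_iff (P.map q).primeCompl] at key
  obtain ⟨m, hm, hmx⟩ := key
  obtain ⟨s, rfl⟩ := Ideal.Quotient.mk_surjective m
  refine hm (Ideal.mem_map_of_mem _ (hPx s ?_))
  rw [← map_mul, Ideal.mem_quotient_iff_mem hcI] at hmx
  exact hmx

end Groth.Agent.GrLinkage
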