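import Groth.Prelude.Def_GrSyz
import Groth.Agent.SegreOne.Poly
import Groth.Agent.DepthLib.CMPoly
import Groth.Agent.DepthLib.Quotient
import Groth.Agent.DepthLib.Sequence
import Groth.Agent.Catenary.CM
import Groth.Agent.GorLib.InjDim

/-!
Unmixedness of homogeneous ideals with Cohen–Macaulay quotient in a polynomial ring, and linkage.
-/

set_option autoImplicit false
set_option linter.style.haveILetI false
set_option linter.unusedVariables false
universe u

open LocCoh
open scoped Pointwise

namespace Groth.Agent.GrLinkage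

variable {S : Type u} [CommRing S]

theorem exists_mem_associatedPrimes_of_notMem [IsNoetherianRing S] {I : Ideal S} {x : S} (hx : x ∉ I) :
    ∃ P ∈ associatedPrimes S (S ⧸ I), ∀ a, a * x ∈ I → a ∈ P := by
  obtain ⟨P, hP, hle⟩ := exists_le_isAssociatedPrime_of_isNoetherianRing S (Submodule.Quotient.mk (p := I) x : S ⧸ I)
    fun h => hx ((Submodule.Quotient.mk_eq_zero I).1 h)
  refine ⟨P, hP, fun a ha => hle ?_⟩
  rw [Submodule.mem_colon_singleton, Submodule.mem_bot, ← Submodule.Quotient.mk_smul, Submodule.Quotient.mk_eq_zero,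
    smul_eq_mul]
  exact ha

theorem le_of_mem_associatedPrimes {I P : Ideal S} (hP : P ∈ associatedPrimes S (S ⧸ I)) : I ≤ P := by
  refine le_trans (le_of_eq ?_) hP.annihilator_le
  rw [Submodule.annihilator_top, Ideal.annihilator_quotient]

theorem mem_associatedPrimes_of_mem_minimalPrimes [IsNoetherianRing S] {I P : Ideal S}
    (hP : P ∈ I.minimalPrimes) : P ∈ associatedPrimes S (S ⧸ I) :=
  Module.associatedPrimes.minimalPrimes_annihilator_subset_associatedPrimes S (S ⧸ I) (by rwa [Ideal.annihilator_quotient])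

theorem mem_minimalPrimes_of_height_eq [IsNoetherianRing S] {I P : Ideal S} [P.IsPrime] (hle : I ≤ P)
    (h : P.height = I.height) : P ∈ I.minimalPrimes := by
  refine ⟨⟨inferInstance, hle⟩, fun Q hQ hQP => ?_⟩
  haveI := hQ.1
  by_contra hne
  have h1 := Ideal.height_add_one_le_of_lt_of_isPrime (lt_of_le_not_ge hQP hne)
  have h2 := Ideal.height_mono hQ.2
  obtain ⟨a, ha⟩ := ENat.ne_top_iff_exists.1 (Ideal.height_ne_top (I := Q) Ideal.IsPrime.ne_top')
  obtain ⟨b, hb⟩ := ENat.ne_top_iff_exists.1 (Ideal.height_ne_top (I := P) Ideal.IsPrime.ne_top')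
  rw [← ha, ← hb] at h1
  rw [← h, ← ha, ← hb] at h2
  norm_cast at h1 h2
  omega

/-- Over a Cohen–Macaulay quotient all associated primes are minimal. -/
theorem mem_minimalPrimes_of_cm [IsNoetherianRing S] {I P : Ideal S} [IsCohenMacaulayRing (S ⧸ I)]
    (hP : P ∈ associatedPrimes S (S ⧸ I)) : P ∈ I.minimalPrimes := by
  have hIP := le_of_mem_associatedPrimes hP
  haveI := hP.isPrime
  obtain ⟨-, z, hz⟩ := isAssociatedPrime_iff.1 hP
  haveI : (P.map (Ideal.Quotient.mk I)).IsPrime :=
    Ideal.map_isPrime_of_surjective Ideal.Quotient.mk_surjective (by rwa [Ideal.mk_ker])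
  have hQ : P.map (Ideal.Quotient.mk I) ∈ associatedPrimes (S ⧸ I) (S ⧸ I) := by
    refine isAssociatedPrime_iff.2 ⟨inferInstance, z, ?_⟩
    ext a
    obtain ⟨a, rfl⟩ := Ideal.Quotient.mk_surjective a
    rw [Ideal.mem_quotient_iff_mem hIP, hz, Submodule.mem_colon_singleton, Submodule.mem_colon_singleton]
    exact Iff.rfl
  have hmin := SegreOne.mem_minimalPrimes_of_mem_associatedPrimes hQ
  refine ⟨⟨inferInstance, hIP⟩, fun Q hQ' hQP => ?_⟩
  haveI := hQ'.1
  haveI : (Q.map (Ideal.Quotient.mk I)).IsPrime :=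
    Ideal.map_isPrime_of_surjective Ideal.Quotient.mk_surjective (by rw [Ideal.mk_ker]; exact hQ'.2)
  intro a ha
  exact (Ideal.mem_quotient_iff_mem hQ'.2).1
    (hmin.2 ⟨inferInstance, bot_le⟩ (Ideal.map_mono hQP) (Ideal.mem_map_of_mem _ ha))

/-- Height formula in a Cohen–Macaulay ring along a Cohen–Macaulay quotient. -/
theorem height_eq_add [IsCohenMacaulayRing S] {I : Ideal S} [IsCohenMacaulayRing (S ⧸ I)] {P Q : Ideal S}
    [P.IsPrime] (hQ : Q ∈ I.minimalPrimes) (hQP : Q ≤ P) (P' : Ideal (S ⧸ I)) [P'.IsPrime]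
    (hP' : P' = P.map (Ideal.Quotient.mk I)) : (P.height : WithBot ℕ∞) = Q.height + P'.height := by
  haveI := hQ.isPrime
  let A := Localization.AtPrime P
  haveI : IsCohenMacaulayLocalRing A := IsCohenMacaulayRing.isCohenMacaulayLocalRing_localization P
  have hIP : I ≤ P := hQ.le.trans hQP
  let J : Ideal A := I.map (algebraMap S A)
  haveI := IsCohenMacaulayRing.isCohenMacaulayLocalRing_localization (R := S ⧸ I) P'
  have hdim : Module.supportDim A (A ⧸ J) = P'.height := by
    rw [Module.supportDim_quotient_eq_ringKrullDim, DepthLib.height_map_quotient_eq_supportDim I P hIP P' hP']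
  have hCM : IsCohenMacaulayModule A (A ⧸ J) := by
    show Module.supportDim A (A ⧸ J) = _
    rw [hdim, ← DepthLib.depth_quotient_localization I P hIP P' hP', ← DepthLib.ringKrullDim_eq_depth,
      IsLocalization.AtPrime.ringKrullDim_eq_height P']
  have hdisj : Disjoint (P.primeCompl : Set S) (Q : Set S) :=
    Set.disjoint_left.2 fun a ha haQ => ha (hQP haQ)
  haveI : (Q.map (algebraMap S A)).IsPrime := IsLocalization.isPrime_of_isPrime_disjoint P.primeCompl A Q inferInstance hdisj
  have hass : Q.map (algebraMap S A) ∈ associatedPrimes A (A ⧸ J) := by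
    refine Module.associatedPrimes.minimalPrimes_annihilator_subset_associatedPrimes A (A ⧸ J) ?_
    rw [Ideal.annihilator_quotient]
    refine ⟨⟨inferInstance, Ideal.map_mono hQ.le⟩, fun q hq hqQ => ?_⟩
    haveI := hq.1
    have h1 := hQ.2 ⟨Ideal.IsPrime.comap (algebraMap S A), Ideal.map_le_iff_le_comap.1 hq.2⟩
      ((Ideal.comap_mono hqQ).trans_eq (IsLocalization.under_map_of_isPrime_disjoint P.primeCompl A inferInstance hdisj))
    exact Ideal.map_le_iff_le_comap.2 h1
  have h1 := DepthLib.ringKrullDim_quotient_eq_of_mem_associatedPrimes hCM hass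
  have h2 := (DepthLib.isCohenMacaulayModule_localization (M := A) DepthLib.isCohenMacaulayModule_self
    ⟨Q.map (algebraMap S A), inferInstance⟩ (Module.mem_support_iff'.mpr ⟨1, fun r hr => by
      rw [smul_eq_mul, mul_one]; exact fun h0 => hr (h0 ▸ Submodule.zero_mem _)⟩)).2
  rw [DepthLib.supportDim_localization_self, Module.supportDim_self_eq_ringKrullDim, h1, hdim,
    IsLocalization.AtPrime.ringKrullDim_eq_height P,
    IsLocalization.height_map_of_disjoint P.primeCompl Q hdisj] at h2
  exact h2.symm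

variable {K : Type u} [Field K] {n : ℕ}

local notation "Pol" => MvPolynomial (Fin (n + 1)) K

theorem le_vertex {I : Ideal Pol} (hI : I.IsHomogeneous (GrSyz.stdGr K (Fin (n + 1)))) (hne : I ≠ ⊤) :
    I ≤ RingHom.ker (MvPolynomial.constantCoeff (R := K) (σ := Fin (n + 1))) := by
  classical
  intro x hx
  have h0 := hI 0 hx
  have he : (DirectSum.decompose (GrSyz.stdGr K (Fin (n + 1))) x 0 : Pol) = MvPolynomial.C (MvPolynomial.constantCoeff x) := by
    refine (MvPolynomial.decompose'_apply K (fun _ : Fin (n + 1) => (1 : ℤ)) x 0).trans ?_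
    ext d
    rw [MvPolynomial.coeff_weightedHomogeneousComponent, MvPolynomial.coeff_C, MvPolynomial.constantCoeff_eq]
    have hw : Finsupp.weight (fun _ : Fin (n + 1) => (1 : ℤ)) d = ((∑ i, d i : ℕ) : ℤ) := by
      rw [Finsupp.weight_apply, Finsupp.sum_fintype _ _ (fun i => by simp)]
      simp
    by_cases hd : (0 : Fin (n + 1) →₀ ℕ) = d
    · subst hd
      simp [hw]
    · rw [if_neg hd, if_neg]
      rw [hw]
      intro h
      refine hd (Finsupp.ext fun i => ?_)
      have h' : ∑ i, d i = 0 := by exact_mod_cast h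
      exact ((Finset.sum_eq_zero_iff).1 h' i (Finset.mem_univ i)).symm
  rw [he] at h0
  rw [RingHom.mem_ker]
  by_contra hc
  exact hne (Ideal.eq_top_of_isUnit_mem I h0 ((isUnit_iff_ne_zero.2 hc).map MvPolynomial.C))

/-- Unmixedness. -/
theorem height_eq_of_mem_associatedPrimes {I : Ideal Pol} (hI : I.IsHomogeneous (GrSyz.stdGr K (Fin (n + 1))))
    [IsCohenMacaulayRing (Pol ⧸ I)] {P : Ideal Pol} (hP : P ∈ associatedPrimes Pol (Pol ⧸ I)) :
    P.height = I.height := by
  haveI : IsCohenMacaulayRing K :=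
    haveI := DepthLib.CMPoly.isRegularRing_field K
    Catenary.isCohenMacaulayRing_of_isRegularRing K
  haveI := Catenary.isCohenMacaulayRing_mvPolynomial K (n + 1)
  let m : Ideal Pol := RingHom.ker (MvPolynomial.constantCoeff (R := K) (σ := Fin (n + 1)))
  haveI : m.IsPrime := RingHom.ker_isPrime _
  have hle : ∀ Q ∈ I.minimalPrimes, Q ≤ m := fun Q hQ =>
    le_vertex (SegreDim.IsStd.isHomogeneous_of_minimal hI hQ) hQ.isPrime.ne_top
  have hmin := mem_minimalPrimes_of_cm hP
  have hIm : I ≤ m := hmin.le.trans (hle P hmin)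
  haveI : (m.map (Ideal.Quotient.mk I)).IsPrime :=
    Ideal.map_isPrime_of_surjective Ideal.Quotient.mk_surjective (by rwa [Ideal.mk_ker])
  have hkey : ∀ Q ∈ I.minimalPrimes, Q.height = P.height := fun Q hQ => by
    have h1 := height_eq_add hQ (hle Q hQ) (m.map (Ideal.Quotient.mk I)) rfl
    have h2 := height_eq_add hmin (hle P hmin) (m.map (Ideal.Quotient.mk I)) rfl
    rw [h1] at h2
    obtain ⟨a, ha⟩ := ENat.ne_top_iff_exists.1 (Ideal.height_ne_top (I := Q) hQ.isPrime.ne_top)
    obtain ⟨b, hb⟩ := ENat.ne_top_iff_exists.1 (Ideal.height_ne_top (I := P) hmin.isPrime.ne_top)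
    obtain ⟨c, hc⟩ := ENat.ne_top_iff_exists.1 (Ideal.height_ne_top (I := m.map (Ideal.Quotient.mk I)) Ideal.IsPrime.ne_top')
    rw [← ha, ← hb, ← hc] at h2
    rw [← ha, ← hb]
    norm_cast at h2 ⊢
    omega
  refine le_antisymm (Ideal.height_eq_inf_minimalPrimes (I := I) ▸ ?_) (Ideal.height_mono (le_of_mem_associatedPrimes hP))
  exact le_iInf₂ fun Q hQ => (hkey Q hQ).ge

end Groth.Agent.GrLinkage
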