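import Groth.Agent.GrLinkage.Linkage

/-!
Basic double links.
-/

set_option autoImplicit false
set_option linter.style.haveILetI false
set_option linter.unusedVariables false
universe u

open LocCoh
open scoped Pointwise

namespace Groth.Agent.GrLinkage

variable {S : Type u} [CommRing S] [IsNoetherianRing S]

theorem map_mem_associatedPrimes {T : Type u} [CommRing T] [IsNoetherianRing T] (φ : S →+* T) (hφ : Function.Surjective φ)
    {I P : Ideal S} (hI : RingHom.ker φ = I) (hP : P ∈ associatedPrimes S (S ⧸ I)) :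
    P.map φ ∈ associatedPrimes T T := by
  have hIP := le_of_mem_associatedPrimes hP
  haveI := hP.isPrime
  obtain ⟨-, z, hz⟩ := isAssociatedPrime_iff.1 hP
  obtain ⟨x, rfl⟩ := Submodule.Quotient.mk_surjective _ z
  refine isAssociatedPrime_iff.2 ⟨Ideal.map_isPrime_of_surjective hφ (hI ▸ hIP), φ x, ?_⟩
  ext a
  obtain ⟨a, rfl⟩ := hφ a
  rw [← Ideal.mem_comap, Ideal.comap_map_of_surjective _ hφ, ← RingHom.ker_eq_comap_bot, hI, sup_eq_left.2 hIP, hz,
    Submodule.mem_colon_singleton, Submodule.mem_colon_singleton, Submodule.mem_bot, Submodule.mem_bot,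
    ← Submodule.Quotient.mk_smul, Submodule.Quotient.mk_eq_zero, smul_eq_mul, smul_eq_mul, ← map_mul, ← RingHom.mem_ker, hI]

theorem notMem_of_mem_associatedPrimes {J Q : Ideal S} {f : S} (hJf : ∀ a, f * a ∈ J → a ∈ J)
    (hQ : Q ∈ associatedPrimes S (S ⧸ J)) : f ∉ Q := fun hf => by
  obtain ⟨hp, z, hz⟩ := isAssociatedPrime_iff.1 hQ
  obtain ⟨x, rfl⟩ := Submodule.Quotient.mk_surjective _ z
  rw [hz, Submodule.mem_colon_singleton, Submodule.mem_bot, ← Submodule.Quotient.mk_smul, Submodule.Quotient.mk_eq_zero] at hf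
  refine hp.ne_top ((Ideal.eq_top_iff_one Q).2 ?_)
  rw [hz, Submodule.mem_colon_singleton, Submodule.mem_bot, ← Submodule.Quotient.mk_smul, Submodule.Quotient.mk_eq_zero, one_smul]
  exact hJf x hf

theorem height_add_one_le_of_regular {J P : Ideal S} {f : S} (hJf : ∀ a, f * a ∈ J → a ∈ J) [P.IsPrime]
    (hJP : J ≤ P) (hfP : f ∈ P) : J.height + 1 ≤ P.height := by
  obtain ⟨Q, hQ, hQP⟩ := Ideal.exists_minimalPrimes_le hJP
  haveI := hQ.isPrime
  have hlt : Q < P := lt_of_le_not_ge hQP fun h =>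
    notMem_of_mem_associatedPrimes hJf (mem_associatedPrimes_of_mem_minimalPrimes hQ) (h hfP)
  exact (add_le_add (Ideal.height_mono hQ.le) le_rfl).trans (Ideal.height_add_one_le_of_lt_of_isPrime hlt)

theorem height_doubleLink {J I : Ideal S} {f : S} (hJI : J ≤ I) (hJf : ∀ a, f * a ∈ J → a ∈ J) {h : ℕ}
    (hJh : J.height = h) (hIh : I.height = h + 1) : (J ⊔ Ideal.span {f} * I).height = h + 1 := by
  refine le_antisymm ((Ideal.height_mono (sup_le hJI Ideal.mul_le_right)).trans hIh.le) ?_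
  rw [Ideal.height_eq_inf_minimalPrimes]
  refine le_iInf₂ fun P hP => ?_
  haveI := hP.isPrime
  have hJP : J ≤ P := le_sup_left.trans hP.le
  rcases (Ideal.IsPrime.mul_le ‹_›).1 (le_sup_right.trans hP.le) with h1 | h1
  · rw [← hJh]
    exact height_add_one_le_of_regular hJf hJP (h1 (Ideal.mem_span_singleton_self f))
  · exact hIh.ge.trans (Ideal.height_mono h1)

/-- Cutting a Cohen–Macaulay quotient by a regular element. -/
theorem height_eq_of_assoc_sup [IsCohenMacaulayRing S] {J : Ideal S} [IsCohenMacaulayRing (S ⧸ J)] {f : S}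
    (hJf : ∀ a, f * a ∈ J → a ∈ J) {P : Ideal S} (hP : P ∈ associatedPrimes S (S ⧸ (J ⊔ Ideal.span {f}))) :
    ∃ Q ∈ J.minimalPrimes, (P.height : WithBot ℕ∞) = (Q.height : WithBot ℕ∞) + (1 : ℕ) := by
  let q : S →+* S ⧸ J := Ideal.Quotient.mk J
  haveI := hP.isPrime
  have hle := le_of_mem_associatedPrimes hP
  haveI : (P.map q).IsPrime :=
    Ideal.map_isPrime_of_surjective Ideal.Quotient.mk_surjective (by rw [Ideal.mk_ker]; exact le_sup_left.trans hle)
  let r : S ⧸ J →+* (S ⧸ J) ⧸ Ideal.span {q f} := Ideal.Quotient.mk _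
  have hker : RingHom.ker (r.comp q) = J ⊔ Ideal.span {f} := by
    rw [← RingHom.comap_ker, Ideal.mk_ker,
      show Ideal.span {q f} = (Ideal.span {f}).map q by rw [Ideal.map_span, Set.image_singleton],
      Ideal.comap_map_of_surjective q Ideal.Quotient.mk_surjective, ← RingHom.ker_eq_comap_bot, Ideal.mk_ker, sup_comm]
  have hass := map_mem_associatedPrimes (r.comp q) (Ideal.Quotient.mk_surjective.comp Ideal.Quotient.mk_surjective) hker hP
  rw [← Ideal.map_map] at hass
  haveI := hass.isPrime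
  have h0 : depth (Localization.AtPrime ((P.map q).map r)) (Localization.AtPrime ((P.map q).map r)) = 0 :=
    (DepthLib.depth_localization_self _).symm.trans
      (DepthLib.depth_localization_eq_zero_of_mem_associatedPrimes (M := (S ⧸ J) ⧸ Ideal.span {q f}) _ hass)
  have hnzd : q f ∈ nonZeroDivisors (S ⧸ J) := mem_nonZeroDivisors_iff.2
    ⟨fun a ha => by
      obtain ⟨a, rfl⟩ := Ideal.Quotient.mk_surjective a
      exact Ideal.Quotient.eq_zero_iff_mem.2 (hJf a (Ideal.Quotient.eq_zero_iff_mem.1 ((map_mul _ _ _).trans ha))),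
    fun a ha => by
      obtain ⟨a, rfl⟩ := Ideal.Quotient.mk_surjective a
      rw [mul_comm] at ha
      exact Ideal.Quotient.eq_zero_iff_mem.2 (hJf a (Ideal.Quotient.eq_zero_iff_mem.1 ((map_mul _ _ _).trans ha)))⟩
  have h1 := (DepthLib.depth_height_quotient_singleton hnzd (P.map q)
    (Ideal.mem_map_of_mem q (hle (Ideal.mem_sup_right (Ideal.mem_span_singleton_self f)))) ((P.map q).map r) rfl).1
  rw [h0, zero_add] at h1
  haveI := IsCohenMacaulayRing.isCohenMacaulayLocalRing_localization (R := S ⧸ J) (P.map q)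
  have h2 := DepthLib.ringKrullDim_eq_depth (R := Localization.AtPrime (P.map q))
  rw [IsLocalization.AtPrime.ringKrullDim_eq_height (P.map q), ← h1] at h2
  obtain ⟨Q, hQ, hQP⟩ := Ideal.exists_minimalPrimes_le (le_sup_left.trans hle : J ≤ P)
  exact ⟨Q, hQ, by rw [height_eq_add hQ hQP (P.map q) rfl, h2]; rfl⟩

variable {K : Type u} [Field K] {n : ℕ}

local notation "Pol" => MvPolynomial (Fin (n + 1)) K

theorem unmixed_doubleLink {J I : Ideal Pol} (hJ : J.IsHomogeneous (GrSyz.stdGr K (Fin (n + 1)))) (hJI : J ≤ I)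
    [IsCohenMacaulayRing (Pol ⧸ J)] {f : Pol} (hJf : ∀ a, f * a ∈ J → a ∈ J) {h : ℕ} (hJh : J.height = h) :
    (∀ p ∈ associatedPrimes Pol (Pol ⧸ I), p.height = h + 1) ↔
      ∀ p ∈ associatedPrimes Pol (Pol ⧸ (J ⊔ Ideal.span {f} * I)), p.height = h + 1 := by
  let It := J ⊔ Ideal.span {f} * I
  let F : (Pol ⧸ I) →ₗ[Pol] Pol ⧸ It := Submodule.mapQ I It (f • LinearMap.id) fun a ha =>
    Ideal.mem_sup_right (Ideal.mul_mem_mul (Ideal.mem_span_singleton_self f) ha)
  have hF : Function.Injective F := by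
    rw [injective_iff_map_eq_zero]
    intro a ha
    obtain ⟨a, rfl⟩ := Submodule.Quotient.mk_surjective _ a
    rw [Submodule.mapQ_apply, Submodule.Quotient.mk_eq_zero] at ha
    obtain ⟨j, hj, y, hy, hjy⟩ := Submodule.mem_sup.1 ha
    obtain ⟨b, hb, rfl⟩ := Ideal.mem_span_singleton_mul.1 hy
    change j + f * b = f * a at hjy
    refine (Submodule.Quotient.mk_eq_zero I).2 ?_
    have h1 : a - b ∈ J := hJf _ (by
      rw [mul_sub, ← hjy, add_sub_cancel_right]
      exact hj)
    exact (sub_add_cancel a b) ▸ add_mem (hJI h1) hb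
  let G : (Pol ⧸ It) →ₗ[Pol] Pol ⧸ (J ⊔ Ideal.span {f}) :=
    Submodule.factor (sup_le_sup_left Ideal.mul_le_left J)
  have hex : Function.Exact F G := fun y => by
    obtain ⟨y, rfl⟩ := Submodule.Quotient.mk_surjective _ y
    constructor
    · intro hy
      obtain ⟨j, hj, z, hz, rfl⟩ := Submodule.mem_sup.1 ((Submodule.Quotient.mk_eq_zero _).1 hy)
      obtain ⟨b, rfl⟩ := Ideal.mem_span_singleton'.1 hz
      refine ⟨Submodule.Quotient.mk b, ?_⟩
      rw [Submodule.mapQ_apply]
      refine ((Submodule.Quotient.eq It).2 ?_).symm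
      show j + b * f - f * b ∈ It
      rw [mul_comm, add_sub_cancel_right]
      exact Ideal.mem_sup_left hj
    · rintro ⟨b, hb⟩
      obtain ⟨b, rfl⟩ := Submodule.Quotient.mk_surjective _ b
      rw [← hb]
      exact (Submodule.Quotient.mk_eq_zero _).2 (Ideal.mem_sup_right (Ideal.mul_mem_right b _ (Ideal.mem_span_singleton_self f)))
  haveI : IsCohenMacaulayRing K :=
    haveI := DepthLib.CMPoly.isRegularRing_field K
    Catenary.isCohenMacaulayRing_of_isRegularRing K
  haveI := Catenary.isCohenMacaulayRing_mvPolynomial K (n + 1)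
  refine ⟨fun hu p hp => ?_, fun hu p hp => hu p (associatedPrimes.subset_of_injective hF hp)⟩
  rcases associatedPrimes.subset_union_of_exact hF hex hp with h1 | h1
  · exact hu p h1
  · obtain ⟨Q, hQ, hQP⟩ := height_eq_of_assoc_sup hJf h1
    rw [height_eq_of_mem_associatedPrimes hJ (mem_associatedPrimes_of_mem_minimalPrimes hQ), hJh] at hQP
    exact WithBot.coe_injective (hQP.trans (by norm_cast))

end Groth.Agent.GrLinkage
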