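import Groth.Agent.GrLinkage.DoubleLink
import Groth.Agent.GradedVertex.Basic
import Groth.Agent.LocCohLib.ExtVanishing
import Groth.Agent.LocCohLib.CdLE

/-!
Local cohomology of basic double links.
-/

set_option autoImplicit false
set_option linter.style.haveILetI false
set_option linter.unusedVariables false
universe u

open CategoryTheory LocCoh
open scoped Pointwise

namespace Groth.Agent.GrLinkage

variable {K : Type u} [Field K] {n : ℕ}

local notation "Pol" => MvPolynomial (Fin (n + 1)) K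
local notation "𝔪₀" => RingHom.ker (MvPolynomial.constantCoeff (R := K) (σ := Fin (n + 1)))

theorem irrel_eq_vertex : (GrSyz.irrel (GrSyz.stdGr K (Fin (n + 1)))).toIdeal = 𝔪₀ := by
  classical
  refine le_antisymm (Ideal.span_le.2 ?_) fun x hx => ?_
  · rintro r ⟨j, hj, hr⟩
    rw [GrSyz.mem_stdGr_iff] at hr
    rw [SetLike.mem_coe, RingHom.mem_ker, MvPolynomial.constantCoeff_eq]
    exact hr.coeff_eq_zero _ (by simpa using hj.ne)
  · rw [x.as_sum]
    refine Ideal.sum_mem _ fun d hd => ?_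
    refine Ideal.subset_span ⟨Finsupp.weight (fun _ : Fin (n + 1) => (1 : ℤ)) d, ?_, ?_⟩
    · have hd0 : d ≠ 0 := fun h => (MvPolynomial.mem_support_iff.1 hd) (by subst h; exact hx)
      rw [Finsupp.weight_apply, Finsupp.sum]
      refine Finset.sum_pos (fun i hi => ?_) (Finsupp.support_nonempty_iff.2 hd0)
      rw [nsmul_one]
      exact_mod_cast Nat.pos_of_ne_zero (Finsupp.mem_support_iff.1 hi)
    · rw [GrSyz.mem_stdGr_iff]
      exact MvPolynomial.isWeightedHomogeneous_monomial _ _ _ rfl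

theorem idealDepth_vertex {J : Ideal Pol} (hJ : J.IsHomogeneous (GrSyz.stdGr K (Fin (n + 1)))) (hne : J ≠ ⊤)
    [IsCohenMacaulayRing (Pol ⧸ J)] {h : ℕ} (hJh : J.height = h) :
    ((n + 1 - h : ℕ) : ℕ∞) ≤ idealDepth 𝔪₀ (Pol ⧸ J) := by
  haveI : IsCohenMacaulayRing K :=
    haveI := DepthLib.CMPoly.isRegularRing_field K
    Catenary.isCohenMacaulayRing_of_isRegularRing K
  haveI := Catenary.isCohenMacaulayRing_mvPolynomial K (n + 1)
  haveI hmax : (𝔪₀ : Ideal Pol).IsMaximal :=
    RingHom.ker_isMaximal_of_surjective _ fun c => ⟨MvPolynomial.C c, MvPolynomial.constantCoeff_C _ c⟩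
  have hJm := le_vertex hJ hne
  let q : Pol →+* Pol ⧸ J := Ideal.Quotient.mk J
  haveI : (Ideal.map q 𝔪₀).IsMaximal :=
    Ideal.IsMaximal.map_of_surjective_of_ker_le Ideal.Quotient.mk_surjective (by rw [Ideal.mk_ker]; exact hJm)
  haveI := IsCohenMacaulayRing.isCohenMacaulayLocalRing_localization (R := Pol ⧸ J) (Ideal.map q 𝔪₀)
  rw [← DepthLib.idealDepth_map_of_surjective (R := Pol) (S := Pol ⧸ J) Ideal.Quotient.mk_surjective]
  show _ ≤ idealDepth (Ideal.map q 𝔪₀) (Pol ⧸ J)
  rw [GradedVertex.idealDepth_maximal]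
  have hd := DepthLib.ringKrullDim_eq_depth (R := Localization.AtPrime (Ideal.map q 𝔪₀))
  rw [IsLocalization.AtPrime.ringKrullDim_eq_height (Ideal.map q 𝔪₀)] at hd
  rw [← WithBot.coe_injective hd]
  obtain ⟨Q, hQ, hQm⟩ := Ideal.exists_minimalPrimes_le hJm
  have h1 := height_eq_add hQ hQm (Ideal.map q 𝔪₀) rfl
  rw [height_eq_of_mem_associatedPrimes hJ (mem_associatedPrimes_of_mem_minimalPrimes hQ), hJh] at h1
  have h2 := DepthLib.CMPoly.le_height_ker_constantCoeff K (n + 1)
  rw [show (𝔪₀ : Ideal Pol).height = (h : ℕ∞) + (Ideal.map q 𝔪₀).height from WithBot.coe_injective h1] at h2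
  generalize (Ideal.map q 𝔪₀).height = t at h2 ⊢
  cases t with
  | top => exact le_top
  | coe t =>
    norm_cast at h2 ⊢
    omega

theorem idealDepth_cut {J : Ideal Pol} (hJ : J.IsHomogeneous (GrSyz.stdGr K (Fin (n + 1)))) (hne : J ≠ ⊤)
    [IsCohenMacaulayRing (Pol ⧸ J)] {h : ℕ} (hJh : J.height = h) {f : Pol} (hJf : ∀ a, f * a ∈ J → a ∈ J)
    (hf : f ∈ 𝔪₀) {t : ℕ} (ht : t + h ≤ n) : ((t : ℕ) : ℕ∞) ≤ idealDepth 𝔪₀ (Pol ⧸ (J ⊔ Ideal.span {f})) := by
  have hreg : IsSMulRegular (Pol ⧸ J) f := isSMulRegular_iff_right_eq_zero_of_smul.2 fun z hz => by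
    obtain ⟨z, rfl⟩ := Submodule.Quotient.mk_surjective _ z
    rw [← Submodule.Quotient.mk_smul, Submodule.Quotient.mk_eq_zero] at hz
    exact (Submodule.Quotient.mk_eq_zero _).2 (hJf z hz)
  have h1 := DepthLib.idealDepth_quotSMulTop_add_one (I := 𝔪₀) (M := Pol ⧸ J) hf hreg
  have h2 := (idealDepth_vertex hJ hne hJh).trans h1.ge
  have e : QuotSMulTop f (Pol ⧸ J) ≃ₗ[Pol] Pol ⧸ (J ⊔ Ideal.span {f}) := by
    refine (Submodule.quotEquivOfEq _ (Submodule.map J.mkQ (Ideal.span {f} : Ideal Pol)) ?_).trans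
      ((Submodule.quotientQuotientEquivQuotientSup J (Ideal.span {f})))
    rw [← Submodule.ideal_span_singleton_smul, ← Submodule.range_mkQ J, ← Submodule.map_top,
      ← Submodule.map_smul'', smul_eq_mul, Ideal.mul_top]
  rw [← DepthLib.idealDepth_congr e]
  generalize idealDepth 𝔪₀ (QuotSMulTop f (Pol ⧸ J)) = s at h2 ⊢
  cases s with
  | top => exact le_top
  | coe s =>
    norm_cast at h2 ⊢
    omega

theorem nonempty_H_doubleLink {J I : Ideal Pol} (hJ : J.IsHomogeneous (GrSyz.stdGr K (Fin (n + 1)))) (hJI : J ≤ I)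
    (hne : J ≠ ⊤) [IsCohenMacaulayRing (Pol ⧸ J)] {h : ℕ} (hJh : J.height = h) {f : Pol}
    (hJf : ∀ a, f * a ∈ J → a ∈ J) {d : ℕ} (hf : f ∈ GrSyz.stdGr K (Fin (n + 1)) (d : ℤ)) {i : ℕ} (hi : i + h < n) :
    Nonempty (LocCoh.H (GrSyz.irrel (GrSyz.stdGr K (Fin (n + 1)))).toIdeal i (Pol ⧸ (J ⊔ Ideal.span {f} * I)) ≃ₗ[Pol]
      LocCoh.H (GrSyz.irrel (GrSyz.stdGr K (Fin (n + 1)))).toIdeal i (Pol ⧸ I)) := by
  rw [irrel_eq_vertex]
  have hvan : ∀ l, l ≤ i → Subsingleton ((localCohomology 𝔪₀ l).obj (ModuleCat.of Pol (Pol ⧸ (J ⊔ Ideal.span {f})))) := by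
    intro l hl
    by_cases hfm : f ∈ 𝔪₀
    · exact (LocCohLib.natCast_le_idealDepth_iff_vanishing 𝔪₀ _ (i + 1)).1 (idealDepth_cut hJ hne hJh hJf hfm (by omega)) l (by omega)
    · have hu : IsUnit f := by
        rw [RingHom.mem_ker, MvPolynomial.constantCoeff_eq] at hfm
        rw [GrSyz.mem_stdGr_iff] at hf
        have hd : (d : ℤ) = 0 := by simpa using (hf hfm).symm
        have he : f = MvPolynomial.C (MvPolynomial.coeff 0 f) := by
          classical
          ext a
          rw [MvPolynomial.coeff_C]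
          by_cases ha : (0 : Fin (n + 1) →₀ ℕ) = a
          · subst ha; rw [if_pos rfl]
          · rw [if_neg ha]
            refine hf.coeff_eq_zero _ fun h0 => ha ?_
            rw [hd, Finsupp.weight_apply, Finsupp.sum, Finset.sum_eq_zero_iff_of_nonneg (fun x _ => by simp)] at h0
            ext x
            by_contra hx
            have := h0 x (Finsupp.mem_support_iff.2 (Ne.symm hx))
            simp at this
            exact hx this.symm
        rw [he]
        exact (isUnit_iff_ne_zero.2 hfm).map MvPolynomial.C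
      haveI : Subsingleton (Pol ⧸ (J ⊔ Ideal.span {f})) := Ideal.Quotient.subsingleton_iff.2
        (Ideal.eq_top_of_isUnit_mem _ (Ideal.mem_sup_right (Ideal.mem_span_singleton_self f)) hu)
      exact LocCohLib.subsingleton_of_subsingleton_obj
  let It := J ⊔ Ideal.span {f} * I
  let F : (Pol ⧸ I) →ₗ[Pol] Pol ⧸ It := Submodule.mapQ I It (f • LinearMap.id) fun a ha =>
    Ideal.mem_sup_right (Ideal.mul_mem_mul (Ideal.mem_span_singleton_self f) ha)
  have hF : Function.Injective F := by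
    rw [injective_iff_map_eq_zero]
    intro a ha
    obtain ⟨a, rfl⟩ := Submodule.Quotient.mk_surjective _ a
    rw [Submodule.mapQ_apply, Submodule.Quotient.mk_eq_zero] at ha
    obtain ⟨j, hj, y, hy, hjy⟩ := Submodule.mem_sup.1 ha
    obtain ⟨b, hb, rfl⟩ := Ideal.mem_span_singleton_mul.1 hy
    change j + f * b = f * a at hjy
    refine (Submodule.Quotient.mk_eq_zero I).2 ?_
    have h1 : a - b ∈ J := hJf _ (by rw [mul_sub, ← hjy, add_sub_cancel_right]; exact hj)
    exact (sub_add_cancel a b) ▸ add_mem (hJI h1) hb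
  let G : (Pol ⧸ It) →ₗ[Pol] Pol ⧸ (J ⊔ Ideal.span {f}) := Submodule.factor (sup_le_sup_left Ideal.mul_le_left J)
  have hex : Function.Exact F G := fun y => by
    obtain ⟨y, rfl⟩ := Submodule.Quotient.mk_surjective _ y
    constructor
    · intro hy
      obtain ⟨j, hj, z, hz, rfl⟩ := Submodule.mem_sup.1 ((Submodule.Quotient.mk_eq_zero _).1 hy)
      obtain ⟨b, rfl⟩ := Ideal.mem_span_singleton'.1 hz
      refine ⟨Submodule.Quotient.mk b, ?_⟩
      rw [Submodule.mapQ_apply]
      refine ((Submodule.Quotient.eq It).2 ?_).symm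
      show j + b * f - f * b ∈ It
      rw [mul_comm, add_sub_cancel_right]
      exact Ideal.mem_sup_left hj
    · rintro ⟨b, hb⟩
      obtain ⟨b, rfl⟩ := Submodule.Quotient.mk_surjective _ b
      rw [← hb]
      exact (Submodule.Quotient.mk_eq_zero _).2 (Ideal.mem_sup_right (Ideal.mul_mem_right b _ (Ideal.mem_span_singleton_self f)))
  let C : ShortComplex (ModuleCat.{u} Pol) := ShortComplex.mk (ModuleCat.ofHom F) (ModuleCat.ofHom G)
    (ModuleCat.hom_ext hex.linearMap_comp_eq_zero)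
  have hC : C.ShortExact :=
    { exact := (ShortComplex.ShortExact.moduleCat_exact_iff_function_exact _).2 hex
      mono_f := (ModuleCat.mono_iff_injective _).2 hF
      epi_g := (ModuleCat.epi_iff_surjective _).2 (Submodule.factor_surjective (sup_le_sup_left Ideal.mul_le_left J)) }
  refine ⟨(LinearEquiv.ofBijective ((localCohomology 𝔪₀ i).map C.f).hom ⟨?_, fun w => ?_⟩).symm⟩
  · refine (injective_iff_map_eq_zero _).2 fun w hw => ?_
    cases i with
    | zero =>
      have h' := congrArg (LocCohLib.h0 𝔪₀ C.X₂) hw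
      rw [map_zero, LocCohLib.h0_map] at h'
      exact LocCohLib.h0_injective ((hF (h'.trans (map_zero F).symm)).trans (map_zero _).symm)
    | succ i =>
      obtain ⟨v, rfl⟩ := LocCohLib.exact₁ hC w hw
      haveI := hvan i (Nat.le_succ i)
      exact (congrArg _ (Subsingleton.elim (α := (localCohomology 𝔪₀ i).obj C.X₃) v 0)).trans (map_zero _)
  · haveI := hvan i le_rfl
    exact LocCohLib.exact₂ hC w (Subsingleton.elim (α := (localCohomology 𝔪₀ i).obj C.X₃) _ _)

end Groth.Agent.GrLinkage
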